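import Mathlib
import Groth.Agent.AlgSpLib.EtLocalInst

/-!
# Valuation rings dominating a discrete valuation ring in a finite separable extension
-/

universe u

set_option linter.style.haveILetI false

open AlgebraicGeometry CategoryTheory

namespace Groth.Agent.AlgSpVal

/-- In a finite separable extension, a valuation subring dominating a discrete valuation ring is one. -/
theorem isDiscreteValuationRing_of_dominating {A K L : Type u} [CommRing A] [IsDomain A]
    [IsDiscreteValuationRing A] [Field K] [Algebra A K] [IsFractionRing A K] [Field L] [Algebra K L]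
    [Algebra A L] [IsScalarTower A K L] [FiniteDimensional K L] [Algebra.IsSeparable K L]
    (V : ValuationSubring L) (φ : A →+* V) (hφ : ∀ a, (φ a : L) = algebraMap A L a) [IsLocalHom φ] :
    IsDiscreteValuationRing V := by
  let B := integralClosure A L
  haveI : IsDedekindDomain B := IsIntegralClosure.isDedekindDomain A K L B
  have hBV : ∀ b : B, (b : L) ∈ V := by
    intro b
    letI := φ.toAlgebra
    haveI : IsScalarTower A V L := IsScalarTower.of_algebraMap_eq fun a => (hφ a).symm
    obtain ⟨c, hc⟩ := IsIntegrallyClosed.isIntegral_iff.1 (b.2.tower_top (A := V))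
    rw [← hc]
    exact c.2
  let ι : B →+* V := (algebraMap B L).codRestrict V.toSubring hBV
  let P : Ideal B := (IsLocalRing.maximalIdeal V).comap ι
  haveI : P.IsPrime := Ideal.comap_isPrime ι (IsLocalRing.maximalIdeal V)
  have hP : P ≠ ⊥ := by
    obtain ⟨ϖ, hϖ⟩ := IsDiscreteValuationRing.exists_irreducible A
    intro h
    have hmem : algebraMap A B ϖ ∈ P := by
      show ι (algebraMap A B ϖ) ∈ IsLocalRing.maximalIdeal V
      rw [show ι (algebraMap A B ϖ) = φ ϖ from Subtype.ext (hφ ϖ).symm]
      exact fun hu => hϖ.not_isUnit ((isUnit_map_iff φ ϖ).1 hu)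
    rw [h, Ideal.mem_bot] at hmem
    have h0 : algebraMap A L ϖ = 0 := congrArg Subtype.val hmem
    rw [IsScalarTower.algebraMap_apply A K L, map_eq_zero] at h0
    exact hϖ.ne_zero ((IsFractionRing.to_map_eq_zero_iff (K := K)).1 h0)
  letI := ι.toAlgebra
  haveI : IsScalarTower B V L := IsScalarTower.of_algebraMap_eq fun _ => rfl
  haveI : IsFractionRing B L := IsIntegralClosure.isFractionRing_of_finite_extension A K L B
  let O := Localization.subalgebra.ofField L P.primeCompl P.primeCompl_le_nonZeroDivisors
  haveI : IsLocalization P.primeCompl O := Localization.subalgebra.isLocalization_ofField L _ _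
  haveI : IsDiscreteValuationRing O :=
    IsLocalization.AtPrime.isDiscreteValuationRing_of_dedekind_domain B hP O
  haveI : IsFractionRing O L :=
    IsFractionRing.isFractionRing_of_isDomain_of_isLocalization P.primeCompl O L
  haveI : IsLocalization P.primeCompl V := by
    refine ⟨⟨?_, fun z => ?_, fun {x y} h => ⟨1, ?_⟩⟩⟩
    · rintro ⟨y, hy⟩
      exact IsLocalRing.notMem_maximalIdeal.1 hy
    · have key : ∀ o : O, ∃ (b : B) (s : P.primeCompl), (o : L) * (s : B) = (b : L) := fun o => by
        obtain ⟨⟨b, s⟩, hbs⟩ := IsLocalization.surj P.primeCompl o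
        exact ⟨b, s, congrArg Subtype.val hbs⟩
      by_cases hz : (z : L) = 0
      · exact ⟨(0, 1), Subtype.ext (by simp [hz])⟩
      rcases (ValuationRing.iff_isInteger_or_isInteger O L).1 inferInstance (z : L) with ⟨o, ho⟩ | ⟨o, ho⟩
      · obtain ⟨b, s, hbs⟩ := key o
        exact ⟨(b, s), Subtype.ext (by
          show (z : L) * ((s : B) : L) = (b : L)
          rw [← show (o : L) = (z : L) from ho]; exact hbs)⟩
      · obtain ⟨b, s, hbs⟩ := key o
        have ho' : (o : L) = (z : L)⁻¹ := ho
        rw [ho'] at hbs
        have hbP : b ∈ P.primeCompl := by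
          intro hb
          have hsb : (s : B) = (s : B) := rfl
          have hzs : ι (s : B) = z * ι b := Subtype.ext (by
            show ((s : B) : L) = (z : L) * (b : L)
            rw [← hbs, ← mul_assoc, mul_inv_cancel₀ hz, one_mul])
          refine s.2 ?_
          show ι (s : B) ∈ IsLocalRing.maximalIdeal V
          rw [hzs]
          exact Ideal.mul_mem_left _ _ hb
        exact ⟨((s : B), ⟨b, hbP⟩), Subtype.ext (by
          show (z : L) * (b : L) = ((s : B) : L)
          rw [← hbs, ← mul_assoc, mul_inv_cancel₀ hz, one_mul])⟩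
    · have : x = y := Subtype.ext (congrArg (fun t : V => (t : L)) h)
      rw [this]
  exact IsLocalization.AtPrime.isDiscreteValuationRing_of_dedekind_domain B hP V

/-- A closed point of a scheme etale over a field has finite separable residue field. -/
theorem finite_separable_of_etale {K : Type u} [Field K] {W : Scheme.{u}} (w : W ⟶ Spec (CommRingCat.of K))
    [Etale w] (v : W) (ψ : CommRingCat.of K ⟶ W.residueField v) (hψ : Spec.map ψ = W.fromSpecResidueField v ≫ w) :
    letI := ψ.hom.toAlgebra
    Module.Finite K (W.residueField v) ∧ Algebra.IsSeparable K (W.residueField v) := by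
  haveI : LocallyQuasiFinite w := inferInstance
  have hd : _root_.IsDiscrete (w ⁻¹' {w v}) := w.isDiscrete_preimage_singleton _
  haveI : Subsingleton (Spec (CommRingCat.of K) : Scheme.{u}) := inferInstanceAs (Subsingleton (PrimeSpectrum K))
  haveI : DiscreteTopology W := by
    rw [← isDiscrete_univ_iff]
    convert hd
    exact (Set.eq_univ_of_forall fun x => Subsingleton.elim _ _).symm
  haveI : IsClosedImmersion (W.fromSpecResidueField v) :=
    IsClosedImmersion.of_isPreimmersion _ (isClosed_discrete _)
  haveI : LocallyOfFiniteType (Spec.map ψ) := by rw [hψ]; infer_instance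
  haveI : IsOpenImmersion (Limits.pullback.diagonal (W.fromSpecResidueField v)) := inferInstance
  haveI : FormallyUnramified (Spec.map ψ) := by
    rw [hψ]
    exact MorphismProperty.comp_mem _ _ _ inferInstance (inferInstanceAs (FormallyUnramified w))
  have h1 := (HasRingHomProperty.Spec_iff (P := @LocallyOfFiniteType)).1 ‹_›
  have h2 := (HasRingHomProperty.Spec_iff (P := @FormallyUnramified)).1 ‹FormallyUnramified (Spec.map ψ)›
  letI := ψ.hom.toAlgebra
  haveI : Algebra.FiniteType K (W.residueField v) := h1
  haveI : Algebra.FormallyUnramified K (W.residueField v) := h2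
  exact ⟨Algebra.FormallyUnramified.finite_of_free K _, Algebra.FormallyUnramified.isSeparable K _⟩

end Groth.Agent.AlgSpVal
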