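import Groth.Agent.AlgSpVal.DvrProper
import Groth.Agent.AlgSpVal.DvrExt

/-!
# The valuative criterion of universal closedness over discrete valuation rings, with extensions
-/

set_option backward.isDefEq.respectTransparency false
set_option backward.isDefEq.respectTransparency.types false
set_option linter.style.haveILetI false

universe u

open CategoryTheory Limits Opposite AlgebraicGeometry AlgSp Groth.Agent.AlgSpLib IsLocalRing

namespace Groth.Agent.AlgSpVal

variable {S : Scheme.{u}} {F G : Sp S}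

theorem exists_lift_specializes_dvr_ext {P : Sp S} {T : Over S} [IsLocallyNoetherian T.left] {q : P ⟶ (yon S).obj T}
    (hft : LocP @LocallyOfFiniteType q) (hv : ∀ sq : ValSq q, IsDiscreteValuationRing sq.A → sq.HasLiftExt)
    {U : Over S} {a : (yon S).obj U ⟶ P} (ha : RepWith @Etale a) {b : U ⟶ T} (hb : (yon S).map b = a ≫ q)
    (u : ↥U.left) (t' : ↥T.left) (hst : b.left u ⤳ t') :
    ∃ y, Points.ofPt a u ⤳ y ∧ Points.map q y = Points.ofScheme T t' := by
  by_cases hne : t' = b.left u
  · refine ⟨_, specializes_rfl, ?_⟩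
    rw [Points.map_ofPt, ← hb, hne]
    exact (congrArg (Points.ofPt · u) (Category.comp_id _).symm).trans (ofPt_comp b (𝟙 _) u)
  · have : LocallyOfFiniteType b.left := hft a (𝟙 _) b ha (repWith_id _ T) (by rw [Category.comp_id, hb])
    obtain ⟨A, i₂, hA, hcl, hgen⟩ := S4450.result b.left u t' hst hne
    let str : Spec (CommRingCat.of A) ⟶ S := i₂ ≫ T.hom
    let ι : CommRingCat.of A ⟶ U.left.residueField u := CommRingCat.ofHom (algebraMap A (U.left.residueField u))
    have hw : U.left.fromSpecResidueField u ≫ b.left = Spec.map ι ≫ i₂ := hgen.symm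
    let iU : Over.mk (Spec.map ι ≫ str) ⟶ U := CategoryTheory.Over.homMk (U.left.fromSpecResidueField u) (by
      change U.left.fromSpecResidueField u ≫ U.hom = Spec.map ι ≫ i₂ ≫ T.hom
      rw [← Over.w b, ← Category.assoc, hw, Category.assoc])
    let iT : Over.mk str ⟶ T := CategoryTheory.Over.homMk i₂ rfl
    let sq : ValSq q :=
      { A := A, K := U.left.residueField u, str := str, top := (yon S).map iU ≫ a, bot := (yon S).map iT,
        comm := by
          rw [Category.assoc, ← hb, ← Functor.map_comp, ← Functor.map_comp]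
          congr 1
          exact Over.OverMorphism.ext hw }
    obtain ⟨e, he⟩ := hv sq hA
    obtain ⟨l, hl₁, hl₂⟩ := (hasLift_iff e).1 he
    let z₀ : ↥sq.ptA.left := closedPoint A
    let z : ↥e.ptA'.left := closedPoint e.A'
    let η : ↥sq.ptK.left := closedPoint (U.left.residueField u)
    let η' : ↥e.ptK'.left := closedPoint e.K'
    have hη : (extK e).left η' = η :=
      Subsingleton.elim (α := PrimeSpectrum (U.left.residueField u)) _ _
    have hz₀ : (extA e).left z = z₀ :=
      haveI := e.isLocalHom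
      IsLocalRing.comap_closedPoint e.φ
    refine ⟨Points.ofPt l z, ?_, ?_⟩
    · have h1 : Points.ofPt l ((extJ e).left η') = Points.ofPt a u := by
        rw [← ofPt_comp, hl₁, ofPt_comp, hη]
        change Points.ofPt ((yon S).map iU ≫ a) _ = _
        rw [ofPt_comp]
        congr 1
        exact U.left.fromSpecResidueField_apply u _
      exact h1 ▸ (IsLocalRing.specializes_closedPoint (show PrimeSpectrum e.A' from _)).map (Points.continuous_ofPt l)
    · rw [Points.map_ofPt, hl₂, ofPt_comp, hz₀]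
      refine ((congrArg (Points.ofPt · z₀) (Category.comp_id _).symm).trans (ofPt_comp iT (𝟙 _) z₀)).trans ?_
      congr 1

/-- Lifts after extensions over discrete valuation rings pass to base changes. -/
theorem hasLiftExt_dvr_of_isPullback {F' G' : Sp S} {f : F ⟶ G} {g : G' ⟶ G} {fst : F' ⟶ F} {f' : F' ⟶ G'}
    (hsq : IsPullback fst f' f g) (hf : ∀ sq : ValSq f, IsDiscreteValuationRing sq.A → sq.HasLiftExt)
    (sq : ValSq f') (hA : IsDiscreteValuationRing sq.A) : sq.HasLiftExt := by
  obtain ⟨e₀, he₀⟩ := hf (pushSq hsq sq) hA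
  obtain ⟨l, hl, hl'⟩ := (hasLift_iff e₀).1 he₀
  let e : sq.DomExt :=
    { A' := e₀.A', K' := e₀.K', φ := e₀.φ, ψ := e₀.ψ, comm := e₀.comm, isLocalHom := e₀.isLocalHom }
  refine ⟨e, (hasLift_iff e).2 ⟨hsq.lift l ((yon S).map (extA e) ≫ sq.bot) ?_, ?_, hsq.lift_snd _ _ _⟩⟩
  · rw [Category.assoc]; exact hl'
  · apply hsq.hom_ext
    · rw [Category.assoc, hsq.lift_fst, Category.assoc]
      exact hl
    · rw [Category.assoc, hsq.lift_snd, ← Functor.map_comp_assoc, extJ_extA, Functor.map_comp,
        Category.assoc, Category.assoc, sq.comm]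

theorem isUnivClosedMor_of_dvr_ext (hF : IsAlgSpace F) (hG : IsAlgSpace G) {f : F ⟶ G} (hft : IsFiniteTypeMor f)
    (hN : IsLocNoethSp G) (hv : ∀ sq : ValSq f, IsDiscreteValuationRing sq.A → sq.HasLiftExt) :
    IsUnivClosedMor f := by
  obtain ⟨V, b, hb, hb', hV⟩ := hN
  refine isUnivClosedMor_of_polynomial hF hG hft.2 hb hb' fun A str i hi n C hC => ?_
  have : IsLocallyNoetherian (Spec A) := isLocallyNoetherian_of_isOpenImmersion i.left
  have : IsNoetherianRing A := by
    have : IsNoetherianRing Γ(Spec A, ⊤) :=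
      IsLocallyNoetherian.component_noetherian (X := Spec A) ⟨⊤, isAffineOpen_top _⟩
    exact isNoetherianRing_of_ringEquiv Γ(Spec A, ⊤) (Scheme.ΓSpecIso A).commRingCatIsoToRingEquiv
  let q₁ := pullback.snd f ((yon S).map i ≫ b)
  have hP₁ : IsAlgSpace (pullback f ((yon S).map i ≫ b)) := isAlgSpace_pullback hF (IsAlgSpace.yon_obj _) hG f _
  let T : Over S := Over.mk (Spec.map (polyHom A n) ≫ str)
  let g : (yon S).obj T ⟶ (yon S).obj (Over.mk str) := (yon S).map (specToBase (str := str) (polyHom A n))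
  have : IsLocallyNoetherian T.left :=
    inferInstanceAs (IsLocallyNoetherian (Spec (CommRingCat.of (MvPolynomial (ULift.{u} (Fin n)) A))))
  have : IsAffine T.left := inferInstanceAs (IsAffine (Spec (CommRingCat.of (MvPolynomial (ULift.{u} (Fin n)) A))))
  have hP₂ : IsAlgSpace (pullback q₁ g) := isAlgSpace_pullback hP₁ (IsAlgSpace.yon_obj T) (IsAlgSpace.yon_obj _) q₁ g
  let q₂ := pullback.snd q₁ g
  have sq₂ : IsPullback (pullback.fst q₁ g ≫ pullback.fst f _) q₂ f (g ≫ (yon S).map i ≫ b) :=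
    (IsPullback.of_hasPullback q₁ g).paste_horiz (IsPullback.of_hasPullback f _)
  have hc : CompactSpace (Points (pullback q₁ g)) := (AlgSpPts.isQuasiCompactSp_iff hP₂).1
    (hft.2 (IsAlgSpace.yon_obj T) isQuasiCompactSp_yon _ _ _ sq₂)
  have hlft : LocP @LocallyOfFiniteType q₂ := locP_of_isPullback sq₂ hF hG (IsAlgSpace.yon_obj T) hft.1
  have hcl := isClosed_image_of_lifts hP₂ q₂ hc
    (fun U a b' ha hb' u t' h => exists_lift_specializes_dvr_ext hlft (hasLiftExt_dvr_of_isPullback sq₂ hv) ha hb' u t' h) hC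
  have : Points.map q₂ '' C = Points.schemeHomeo T '' {t | ∃ c ∈ C, Points.map q₂ c = Points.ofScheme T t} := by
    ext x
    obtain ⟨t, rfl⟩ := (Points.schemeHomeo T).surjective x
    constructor
    · rintro ⟨c, hc, hct⟩
      exact ⟨t, ⟨c, hc, hct⟩, rfl⟩
    · rintro ⟨t', ⟨c, hc, hct⟩, ht'⟩
      exact ⟨c, hc, hct.trans ht'⟩
  exact this ▸ (Points.schemeHomeo T).isClosedMap _ hcl

/-- A decent universally closed morphism lifts squares over discrete valuation rings after a finite separable
extension, over a discrete valuation ring. -/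
theorem exists_dvr_lift_of_univClosed (hF : IsAlgSpace F) (hG : IsAlgSpace G) {f : F ⟶ G}
    (hdm : AlgSp.IsDecentMor f) (hc : IsUnivClosedMor f) (sq : ValSq f) (hA : IsDiscreteValuationRing sq.A) :
    ∃ e : sq.DomExt, IsDiscreteValuationRing e.A' ∧
      (letI := e.ψ.toAlgebra; Module.Finite sq.K e.K' ∧ Algebra.IsSeparable sq.K e.K') ∧ e.HasLift := by
  let Z := pullback f sq.bot
  have sqZ := IsPullback.of_hasPullback f sq.bot
  let p : Z ⟶ (yon S).obj sq.ptA := pullback.snd f sq.bot
  have hZ : IsAlgSpace Z := isAlgSpace_pullback hF (IsAlgSpace.yon_obj _) hG f sq.bot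
  have : IsAffine sq.ptA.left := inferInstanceAs (IsAffine (Spec (CommRingCat.of sq.A)))
  have hdec : AlgSp.IsDecent Z := hdm sq.bot _ _ sqZ
  have hpc : IsClosedMap (Points.map p) := hc (IsAlgSpace.yon_obj _) _ _ _ sqZ
  let t : (yon S).obj sq.ptK ⟶ Z := pullback.lift sq.top ((yon S).map sq.j) sq.comm
  let η : ↥sq.ptK.left := closedPoint sq.K
  let x : Points Z := Points.ofPt t η
  let c₀ : ↥sq.ptA.left := closedPoint sq.A
  -- a specialisation of `x` over the closed point
  obtain ⟨z, hxz, hz⟩ : ∃ z, x ⤳ z ∧ Points.map p z = Points.ofScheme sq.ptA c₀ := by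
    have h1 : Points.map p x = Points.ofScheme sq.ptA (sq.j.left η) := by
      rw [Points.map_ofPt, pullback.lift_snd]
      exact (congrArg (Points.ofPt · η) (Category.comp_id _).symm).trans (ofPt_comp _ _ η)
    have h2 : sq.j.left η ⤳ c₀ := IsLocalRing.specializes_closedPoint (show PrimeSpectrum sq.A from _)
    have h3 := (hpc _ (isClosed_closure (s := {x}))).closure_eq
    have h4 : Points.ofScheme sq.ptA c₀ ∈ closure (Points.map p '' closure {x}) :=
      (h2.map (Points.schemeHomeo sq.ptA).continuous).mem_closed isClosed_closure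
        (subset_closure ⟨x, subset_closure rfl, h1⟩)
    rw [h3] at h4
    obtain ⟨z, hz, hzc⟩ := h4
    exact ⟨z, specializes_iff_mem_closure.2 hz, hzc⟩
  obtain ⟨U, a, u, hU, ha, rfl⟩ := AlgSpDec.exists_affine_chart_at hZ z
  obtain ⟨u', hu's, hu'⟩ := AlgSpDec.exists_specializes_lift_of_isDecent hdec ha hxz
  let W := ha.rep.pullback t
  let w₁ : W ⟶ U := ha.rep.fst' t
  let w₂ : W ⟶ sq.ptK := ha.rep.snd t
  have sqW : IsPullback ((yon S).map w₁) ((yon S).map w₂) a t := ha.rep.isPullback' t
  obtain ⟨v, hv, -⟩ := exists_ofPt_of_eq sqW (v := η) hu'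
  let K' := W.left.residueField v
  let σ : U.left.presheaf.stalk u ⟶ K' :=
    U.left.presheaf.stalkSpecializes (hv ▸ hu's) ≫ w₁.left.stalkMap v ≫ W.left.residue v
  obtain ⟨A', hA', hA'_local⟩ := exists_factor_valuationRing σ.hom
  let σA : U.left.presheaf.stalk u ⟶ .of A' := CommRingCat.ofHom (σ.hom.codRestrict _ hA')
  let ι : CommRingCat.of A' ⟶ K' := CommRingCat.ofHom (algebraMap A' K')
  have hσ : σA ≫ ι = σ := rfl
  let i₂ : Spec (CommRingCat.of A') ⟶ U.left := Spec.map σA ≫ U.left.fromSpecStalk u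
  have hw : W.left.fromSpecResidueField v ≫ w₁.left = Spec.map ι ≫ i₂ := by
    rw [Scheme.fromSpecResidueField, Category.assoc, ← Scheme.SpecMap_stalkMap_fromSpecStalk,
      ← Scheme.SpecMap_stalkSpecializes_fromSpecStalk (hv ▸ hu's : w₁.left v ⤳ u)]
    simp only [i₂, ← Spec.map_comp_assoc, hσ]
    rfl
  have hi₂ : i₂ (closedPoint A') = u := by
    change (Spec.map σA ≫ U.left.fromSpecStalk u) (closedPoint A') = u
    rw [Scheme.Hom.comp_apply]
    have h3 : Spec.map σA (closedPoint A') = closedPoint (U.left.presheaf.stalk u) :=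
      comap_closedPoint (S := A') (σ.hom.codRestrict A'.toSubring hA')
    rw [h3, U.left.fromSpecStalk_closedPoint]
  let T : Over S := Over.mk (i₂ ≫ U.hom)
  let iT : T ⟶ U := CategoryTheory.Over.homMk i₂ rfl
  obtain ⟨b, hb⟩ := (yon S).map_surjective ((yon S).map iT ≫ a ≫ p)
  obtain ⟨φ, hφ⟩ : ∃ φ : CommRingCat.of sq.A ⟶ CommRingCat.of A', Spec.map φ = b.left := ⟨_, Spec.map_preimage _⟩
  obtain ⟨ψ, hψ⟩ : ∃ ψ : CommRingCat.of sq.K ⟶ K', Spec.map ψ = W.left.fromSpecResidueField v ≫ w₂.left :=
    ⟨_, Spec.map_preimage _⟩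
  obtain ⟨c, hc⟩ := (yon S).map_surjective (a ≫ p)
  have hbc : b = iT ≫ c := (yon S).map_injective (by rw [hb, Functor.map_comp, hc])
  have hwc : w₁ ≫ c = w₂ ≫ sq.j := (yon S).map_injective (by
    rw [Functor.map_comp, Functor.map_comp, hc, ← Category.assoc, sqW.w, Category.assoc, pullback.lift_snd])
  have hcomm : φ ≫ ι = CommRingCat.ofHom (algebraMap sq.A sq.K) ≫ ψ := Spec.map_injective (by
    have h1 : W.left.fromSpecResidueField v ≫ w₁.left ≫ c.left =
        W.left.fromSpecResidueField v ≫ w₂.left ≫ sq.j.left := by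
      rw [← Over.comp_left, ← Over.comp_left, hwc]
    rw [Spec.map_comp, Spec.map_comp, hφ, hψ, hbc, Over.comp_left, Category.assoc]
    change Spec.map ι ≫ i₂ ≫ c.left = _
    rw [← Category.assoc, ← hw, Category.assoc]
    exact h1)
  have hloc : IsLocalHom φ.hom := by
    refine ((local_hom_TFAE φ.hom).out 0 4).2 ?_
    have h1 : Points.map p (Points.ofPt a u) = Points.ofScheme sq.ptA c₀ := hz
    have h2 : Points.ofScheme sq.ptA (b.left (closedPoint A')) = Points.ofScheme sq.ptA c₀ := by
      rw [← h1, hbc, Over.comp_left, Scheme.Hom.comp_apply, Points.map_ofPt, ← hc]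
      change Points.ofScheme sq.ptA (c.left (i₂ (closedPoint A'))) = _
      rw [hi₂]
      exact ((congrArg (Points.ofPt · u) (Category.comp_id _).symm).trans (ofPt_comp c (𝟙 _) u)).symm
    have h3 := congrArg (Points.toScheme sq.ptA) h2
    rw [Points.toScheme_ofScheme, Points.toScheme_ofScheme, ← hφ] at h3
    exact congrArg PrimeSpectrum.asIdeal h3
  let e : sq.DomExt :=
    { A' := A', K' := K', φ := φ.hom, ψ := ψ.hom, comm := congrArg CommRingCat.Hom.hom hcomm, isLocalHom := hloc }
  have hstr : 𝟙 (Spec (CommRingCat.of A')) ≫ i₂ ≫ U.hom = Spec.map φ ≫ sq.str := by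
    rw [Category.id_comp, hφ]
    exact (Over.w b).symm
  let k : e.ptA' ⟶ T := CategoryTheory.Over.homMk (𝟙 (Spec (CommRingCat.of A'))) hstr
  let kW : e.ptK' ⟶ W := CategoryTheory.Over.homMk (W.left.fromSpecResidueField v) (by
    change W.left.fromSpecResidueField v ≫ W.hom = Spec.map ι ≫ Spec.map φ ≫ sq.str
    rw [← Over.w w₁, ← Category.assoc, hw, ← hstr, Category.assoc, Category.id_comp])
  have hk : extJ e ≫ k ≫ iT = kW ≫ w₁ := Over.OverMorphism.ext (by
    change Spec.map ι ≫ 𝟙 _ ≫ i₂ = W.left.fromSpecResidueField v ≫ w₁.left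
    rw [Category.id_comp, hw])
  have hk₂ : kW ≫ w₂ = extK e := Over.OverMorphism.ext hψ.symm
  have hkA : k ≫ b = extA e := Over.OverMorphism.ext (by
    change 𝟙 _ ≫ b.left = Spec.map (CommRingCat.ofHom φ.hom)
    rw [Category.id_comp]
    exact hφ.symm)
  haveI hWet : Etale w₂.left := ha.property_snd t
  have hfs : letI := ψ.hom.toAlgebra; Module.Finite sq.K K' ∧ Algebra.IsSeparable sq.K K' :=
    finite_separable_of_etale (K := sq.K) w₂.left v ψ hψ
  have hdvr : IsDiscreteValuationRing A' := by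
    letI := ψ.hom.toAlgebra
    letI : Algebra sq.A K' := (ψ.hom.comp (algebraMap sq.A sq.K)).toAlgebra
    haveI : IsScalarTower sq.A sq.K K' := IsScalarTower.of_algebraMap_eq fun _ => rfl
    haveI := hfs.1
    haveI := hfs.2
    haveI : IsLocalHom φ.hom := hloc
    exact isDiscreteValuationRing_of_dominating (K := sq.K) A' φ.hom
      fun a => RingHom.congr_fun (congrArg CommRingCat.Hom.hom hcomm) a
  refine ⟨e, hdvr, hfs, (hasLift_iff e).2 ⟨(yon S).map (k ≫ iT) ≫ a ≫ pullback.fst f sq.bot, ?_, ?_⟩⟩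
  · rw [← Functor.map_comp_assoc, hk, Functor.map_comp, Category.assoc, ← Category.assoc ((yon S).map w₁), sqW.w,
      Category.assoc, pullback.lift_fst, ← Category.assoc, ← Functor.map_comp, hk₂]
  · rw [Category.assoc, Category.assoc, pullback.condition, ← hkA, Functor.map_comp _ k b, hb, Functor.map_comp]
    simp only [Category.assoc]
    rfl

end Groth.Agent.AlgSpVal
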